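import Groth.Agent.Lib.CurveFF.LineExist
import Groth.Agent.Lib.CurveFF.Hyp
import Groth.Agent.Lib.CurveFF.Genus
import Groth.Agent.Lib.CurveFF.Consts
import Groth.Agent.Lib.GeomConn.Residue
import Groth.Agent.Lib.Zeta.Points
import Groth.Agent.Lib.Zeta.ZetaFun
import Groth.Agent.Lib.FunFld.Zeta.Basic
import Groth.Agent.Lib.FunFld.Zeta.Newton
import Groth.Prelude.Def_Curve
import Groth.Prelude.Def_PicGrp

/-!
# Zeta functions and point counts of curves through their function fields
-/

noncomputable section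
set_option autoImplicit false
set_option linter.style.haveILetI false
universe u

open CategoryTheory CategoryTheory.Limits AlgebraicGeometry WithZero

namespace Groth.Agent.Lib.CurveZeta

open Groth.Agent.Lib.CurveFF Groth.Agent.Lib.CurveFF.LineDiv Groth.Agent.Lib.FunFld
open Modules.StalkModule (stalkMapₗ)

attribute [local instance] Curv2.stalkAlgebra Curv2.resAlgebra

variable {k : Type u} [Field k] {X : Scheme.{u}} [X.Over (Spec (CommRingCat.of k))]

/-- The hypotheses of a geometrically connected smooth proper curve give a function field. -/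
theorem hyps [IsIntegral X] [IsProper (X ↘ Spec (CommRingCat.of k))]
    [Smooth (X ↘ Spec (CommRingCat.of k))]
    [GeometricallyIrreducible (X ↘ Spec (CommRingCat.of k))] (hdim : topologicalKrullDim X = 1) :
    CurveHyp X ∧ Module.finrank k (Coh.HH X (Coh.structureModule X) 0) = 1 :=
  haveI : GeometricallyConnected (X ↘ Spec (CommRingCat.of k)) := ⟨fun K _ y P p q hP => by
    have : IrreducibleSpace P :=
      GeometricallyIrreducible.geometrically_irreducibleSpace (f := X ↘ Spec (CommRingCat.of k)) y p q hP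
    infer_instance⟩
  ⟨curveHyp_of_smooth k hdim, finrank_h0_eq_one k X⟩

theorem deg_eq_finrank (x : X) :
    Zeta.Points.deg (X ↘ Spec (CommRingCat.of k)) x = Module.finrank k (X.residueField x) := by
  have h : Zeta.Points.resMap (X ↘ Spec (CommRingCat.of k)) x =
      CommRingCat.ofHom (Curv2.resMap k X x) :=
    Spec.map_injective (by rw [Zeta.Points.specMap_resMap, GeomConn.Residue.specMap_resMap])
  unfold Zeta.Points.deg
  rw [h]

variable [IsIntegral X] [IsProper (X ↘ Spec (CommRingCat.of k))] (h : CurveHyp X)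

include h in
theorem degCount_eq {e : ℕ} (he : 0 < e) :
    _root_.Zeta.degCount (X ↘ Spec (CommRingCat.of k)) e =
      Nat.card {P : _root_.FunFld.Place k X.functionField // P.deg = e} := by
  refine Nat.card_congr (Equiv.trans ?_ ((placeEquiv (k := k) h).subtypeEquiv
    (p := fun x => Module.finrank k (X.residueField x.1) = e) fun x => ?_))
  · refine (Equiv.subtypeEquivRight fun x => ?_).trans
      (Equiv.subtypeSubtypeEquivSubtypeInter (fun x : X => IsClosed ({x} : Set X))
        (fun x => Module.finrank k (X.residueField x) = e)).symm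
    rw [Zeta.Points.residueDegree_eq_deg, deg_eq_finrank]
  · show _ ↔ (placeOf k h x).deg = e
    rw [deg_placeOf]

include h in
theorem nPts_eq [Finite k] (hK : _root_.FunFld.IsFunctionField k X.functionField) {m : ℕ} (hm : 0 < m) :
    _root_.Zeta.nPts (X ↘ Spec (CommRingCat.of k)) m =
      FunFld.Zeta.Points.Npts k X.functionField m := by
  classical
  rw [FunFld.Zeta.Points.Npts_eq hK hm, _root_.Zeta.nPts,
    ← Finset.sum_fiberwise_of_maps_to (g := fun P : _root_.FunFld.Place k X.functionField => P.deg)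
      (t := m.divisors) (fun P hP => Nat.mem_divisors.2 ⟨by simpa using hP, hm.ne'⟩)]
  refine Finset.sum_congr rfl fun e he => ?_
  have he0 : 0 < e := Nat.pos_of_mem_divisors he
  rw [Finset.sum_congr rfl (g := fun _ => e) (fun P hP => (Finset.mem_filter.1 hP).2),
    Finset.sum_const, smul_eq_mul, degCount_eq h he0, mul_comm]
  congr 1
  rw [← Nat.card_eq_finsetCard]
  refine Nat.card_congr (Equiv.subtypeEquivRight fun P => ?_)
  simp only [Finset.mem_filter, Set.Finite.mem_toFinset, Set.mem_ofPred_eq]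
  exact ⟨fun hP => ⟨hP ▸ Nat.dvd_of_mem_divisors he, hP⟩, And.right⟩

open FunFld.Zeta.Newton PowerSeries in
include h in
theorem zetaFun_eq [Finite k] (hK : _root_.FunFld.IsFunctionField k X.functionField) :
    _root_.Zeta.zetaFun (X ↘ Spec (CommRingCat.of k)) =
      PowerSeries.map (Int.castRingHom ℚ) (_root_.FunFld.zetaZ k X.functionField) := by
  set f := X ↘ Spec (CommRingCat.of k)
  have h0 := Zeta.ZetaFun.constantCoeff_logZeta f
  have hN : constantCoeff (PowerSeries.map (Int.castRingHom ℚ) (nser k X.functionField)) = 0 := by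
    rw [← coeff_zero_eq_constantCoeff_apply, coeff_map]
    simp [nser]
  have h2 := rel_map (Int.castRingHom ℚ) (rel_zeta hK)
  refine eq_of_rel hN ?_ h2 ?_
  · rw [FunFld.Zeta.Newton.Rel, Zeta.ZetaFun.zetaFun_eq, theta, Zeta.ExpSeries.derivative_expS h0]
    have hd : PowerSeries.X * d⁄dX ℚ (_root_.Zeta.logZeta f) =
        PowerSeries.map (Int.castRingHom ℚ) (nser k X.functionField) := by
      ext n
      rcases n with _ | n
      · simp [nser]
      · rw [coeff_succ_X_mul, coeff_derivative, coeff_map, coeff_nser n.succ_pos,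
          _root_.Zeta.logZeta, coeff_mk, nPts_eq h hK n.succ_pos]
        simp only [eq_intCast, Int.cast_natCast]
        field_simp
        push_cast
        ring
    rw [← hd]
    ring
  · rw [Zeta.ZetaFun.zetaFun_eq, Zeta.ExpSeries.constantCoeff_expS h0,
      ← coeff_zero_eq_constantCoeff_apply, coeff_map, _root_.FunFld.zetaZ, coeff_mk,
      ← FunFld.Zeta.Basic.a_natCast]
    simp [FunFld.Zeta.Basic.a_zero hK]

section Classes

variable (hK : _root_.FunFld.IsFunctionField k X.functionField)

omit [X.Over (Spec (CommRingCat.of k))] [IsIntegral X] in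
theorem stalkMapₗ_surjective_of_iso {L M : X.Modules} (e : L ≅ M) (x : X) :
    Function.Surjective (stalkMapₗ e.hom x) := fun v =>
  ⟨stalkMapₗ e.inv x v, by
    rw [← LinearMap.comp_apply, ← Modules.StalkModule.stalkMapₗ_comp, e.inv_hom_id,
      Modules.StalkModule.stalkMapₗ_id, LinearMap.id_apply]⟩

/-- Isomorphic modules have linearly equivalent divisors. -/
theorem exists_div_of_iso {L M : X.Modules} (e : L ≅ M) (R : Rep L) (S : Rep M) :
    ∃ f : X.functionField, f ≠ 0 ∧ S.div h hK = R.div h hK + _root_.FunFld.div k f := by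
  have hne : e.hom ≠ 0 := fun h0 => by
    refine R.gen_ne (genericPoint X) ?_
    obtain ⟨w, hw⟩ := stalkMapₗ_surjective_of_iso e.symm (genericPoint X) (R.gen (genericPoint X))
    have hid : stalkMapₗ (e.inv ≫ e.hom) (genericPoint X) w = 0 := by
      rw [h0, CategoryTheory.Limits.comp_zero, Modules.StalkModule.stalkMapₗ_zero, LinearMap.zero_apply]
    rw [e.inv_hom_id, Modules.StalkModule.stalkMapₗ_id, LinearMap.id_apply] at hid
    rw [← hw, hid, map_zero, map_zero]
  let R' := R.tgt S.inv hne
  have hR : ∀ x : CPt X, R.e k h x = R'.e k h x := fun x =>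
    e_eq_of_surjective (φ := e.hom) (R := R) (S := R') (k := k) (h := h) (hc := fun y v => R.tgt_pr S.inv hne y v) x
      (stalkMapₗ_surjective_of_iso e x.1)
  let c : X.presheaf.stalk (genericPoint X) := S.coord (R'.coord.symm 1)
  have hc : ∀ v, S.coord v = R'.coord v * c := fun v => by
    conv_lhs => rw [← R'.coord.symm_apply_apply v, ← mul_one (R'.coord v)]
    rw [← smul_eq_mul, map_smul, map_smul, smul_eq_mul]
  have hc0 : (c : X.functionField) ≠ 0 := fun h0 => S.gen_ne (genericPoint X) (by
    show S.coord _ = 0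
    rw [hc]
    exact (congrArg (_ * ·) h0).trans (mul_zero _))
  have hpr : ∀ y v, S.pr y v = (c : X.functionField) * R'.pr y v := fun y v => by
    show S.coord _ = _
    rw [hc]
    exact mul_comm _ _
  refine ⟨(c : X.functionField)⁻¹, inv_ne_zero hc0, Finsupp.ext fun Q => ?_⟩
  obtain ⟨x, rfl⟩ := placeOf_surjective (k := k) h Q
  rw [Finsupp.add_apply, Rep.div_placeOf, Rep.div_placeOf, FunFld.Degree.div_apply hK,
    FunFld.Place.ord_inv, hR]
  refine S.e_unique h x fun f => ?_
  rw [show R'.e k h x + -(placeOf k h x).ord (c : X.functionField) =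
    -(placeOf k h x).ord (c : X.functionField) + R'.e k h x from add_comm _ _, exp_add,
    ← FunFld.Place.val_eq_exp _ hc0]
  constructor
  · rintro ⟨v, rfl⟩
    rw [hpr, map_mul]
    exact mul_le_mul' le_rfl ((R'.mem_iff h x _).1 ⟨v, rfl⟩)
  · intro hf
    obtain ⟨v, hv⟩ := (R'.mem_iff h x ((c : X.functionField)⁻¹ * f)).2 (by
      rw [map_mul, map_inv₀]
      refine (inv_mul_le_iff₀ (pos_iff_ne_zero.2 ((Valuation.ne_zero_iff _).2 hc0))).2 ?_
      exact hf)
    exact ⟨v, by rw [hpr, hv, mul_inv_cancel_left₀ hc0]⟩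

include h in
/-- Invertible classes of degree `m` are divisor classes of degree `m`. -/
theorem nonempty_pic_equiv (m : ℤ) :
    Nonempty ({c : PicF.Cl X // ∃ L : X.Modules, PicF.cl L = c ∧ PicF.IsInvertible L ∧
        Curv2.deg k X L 1 = m} ≃
      {c : FunFld.Zeta.Basic.Cl k X.functionField // FunFld.Zeta.Basic.degQ hK c = m}) := by
  choose L hcl hinv hdeg using fun c : {c : PicF.Cl X // ∃ L : X.Modules, PicF.cl L = c ∧
    PicF.IsInvertible L ∧ Curv2.deg k X L 1 = m} => c.2
  let R := fun c => (nonempty_rep (hinv c)).some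
  refine ⟨Equiv.ofBijective (fun c => ⟨QuotientAddGroup.mk ((R c).div h hK), ?_⟩) ⟨?_, ?_⟩⟩
  · rw [FunFld.Zeta.Basic.degQ_mk, ← Rep.deg_eq h hK, hdeg]
  · intro c c' hcc
    obtain ⟨f, hf, hfe⟩ := (FunFld.Zeta.Basic.mk_eq_mk hK).1 (congrArg Subtype.val hcc).symm
    obtain ⟨e⟩ := nonempty_iso_of_div h hK (R c) (R c') hf hfe
    exact Subtype.ext ((hcl c).symm.trans (((PicGrp.cl_eq_cl_iff _ _).2 ⟨e⟩).trans (hcl c')))
  · rintro ⟨q, hq⟩
    obtain ⟨D, rfl⟩ := QuotientAddGroup.mk_surjective q
    obtain ⟨M, S, hS, hM⟩ := exists_line h hK D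
    let c : {c : PicF.Cl X // ∃ L : X.Modules, PicF.cl L = c ∧ PicF.IsInvertible L ∧
        Curv2.deg k X L 1 = m} :=
      ⟨PicF.cl M, M, rfl, S.inv, by rw [hM, ← hq, FunFld.Zeta.Basic.degQ_mk]⟩
    obtain ⟨e⟩ := (PicGrp.cl_eq_cl_iff (L c) M).1 (hcl c)
    obtain ⟨f, hf, hfe⟩ := exists_div_of_iso h hK e (R c) S
    exact ⟨c, Subtype.ext ((FunFld.Zeta.Basic.mk_eq_mk hK).2 ⟨f, hf, by rw [← hS]; exact hfe⟩)⟩

end Classes

end Groth.Agent.Lib.CurveZeta
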